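import Mathlib
import Cfsg.Agent.H25.RealExt
import Cfsg.Agent.H6.Gallagher
import Cfsg.Agent.S0887
import Cfsg.Agent.H25.Cover
import Cfsg.Agent.Lib.Helper10.CohExt
import Cfsg.Agent.Lib.Helper23.DegLib

/-! Extensions of an irreducible character of a normal subgroup: twists by linear characters of the quotient. -/

set_option autoImplicit false

namespace Cfsg.Agent.Lib.Helper24

open Cfsg Cfsg.Agent

variable {G : Type*} [Group G] [Fintype G]

/-- two extensions of the same irreducible character differ by a linear character of the quotient -/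
theorem exists_hom_of_extensions (N : Subgroup G) [N.Normal] {χ₀ χ : G → ℂ}
    (h0 : IsIrrCharacter G χ₀) (h : IsIrrCharacter G χ)
    (h0N : IsIrrCharacter N (fun n : N => χ₀ n)) (hres : ∀ n : N, χ n = χ₀ n) :
    ∃ μ : G ⧸ N →* ℂˣ, ∀ g : G, χ g = ((μ (g : G ⧸ N) : ℂˣ) : ℂ) * χ₀ g := by
  classical
  have hG := H6.gallagher N h0 h0N
  have hmem : χ ∈ {ψ : G → ℂ | Cfsg.IsIrrCharacter G ψ ∧
      Cfsg.classInner (Cfsg.indFun N (fun n : N => χ₀ n)) ψ ≠ 0} := by
    refine ⟨h, ?_⟩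
    rw [CharLib.H2.frobenius_reciprocity N _ (CharLib.isClassFunction_of_irr h)]
    have : (fun n : N => χ n) = fun n : N => χ₀ n := funext hres
    rw [this, CharLib.classInner_irr_self h0N]
    exact one_ne_zero
  obtain ⟨β, ⟨hβ, hβN⟩, hβη⟩ := hG.surjOn hmem
  have hη1 := CharLib.irr_apply_one_ne_zero ⟨χ₀, h0⟩
  have hβ1 : β 1 = 1 := by
    have h1 := congrFun hβη 1
    simp only [Pi.mul_apply] at h1
    have h2 : χ 1 = χ₀ 1 := hres 1
    rw [h2] at h1
    exact mul_right_cancel₀ hη1 (h1.trans (one_mul _).symm)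
  have hβmul := CharLib.L.irr_mul_of_apply_one_eq_one ⟨β, hβ⟩ hβ1
  let f : G →* ℂ := { toFun := β, map_one' := hβ1, map_mul' := hβmul }
  set ω : G →* ℂˣ := f.toHomUnits with hω
  have hωβ : ∀ g, (ω g : ℂ) = β g := fun g => rfl
  have hωN : ∀ n ∈ N, ω n = 1 := by
    rw [CharLib.H2.frobenius_reciprocity N _ (CharLib.isClassFunction_of_irr hβ)] at hβN
    have h1 : Cfsg.IsIrrCharacter N (fun n : N => β n) :=
      CharLib.isIrrCharacter_of_hom (ω.comp N.subtype)
    have h2 : (fun _ : N => (1 : ℂ)) = fun n : N => β n := by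
      by_contra hne
      exact hβN (CharLib.classInner_irr_ne CharLib.isIrrCharacter_one h1 hne)
    intro n hn
    apply Units.ext
    rw [hωβ, Units.val_one]
    exact (congrFun h2 ⟨n, hn⟩).symm
  refine ⟨QuotientGroup.lift N ω hωN, fun g => ?_⟩
  show χ g = ((ω g : ℂˣ) : ℂ) * χ₀ g
  rw [hωβ]
  exact (congrFun hβη g).symm

/-- twisting an extension by linear characters of the quotient is injective -/
theorem hom_eq_of_twist_eq (N : Subgroup G) [N.Normal] {χ₀ : G → ℂ}
    (h0 : IsIrrCharacter G χ₀) (h0N : IsIrrCharacter N (fun n : N => χ₀ n))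
    (μ μ' : G ⧸ N →* ℂˣ)
    (h : ∀ g : G, ((μ (g : G ⧸ N) : ℂˣ) : ℂ) * χ₀ g = ((μ' (g : G ⧸ N) : ℂˣ) : ℂ) * χ₀ g) :
    μ = μ' := by
  classical
  have hG := H6.gallagher N h0 h0N
  have hmem : ∀ ν : G ⧸ N →* ℂˣ, (fun g : G => ((ν (g : G ⧸ N) : ℂˣ) : ℂ)) ∈
      {β : G → ℂ | IsIrrCharacter G β ∧ classInner (indFun N (fun _ => (1 : ℂ))) β ≠ 0} := by
    intro ν
    have h1 : IsIrrCharacter G (fun g : G => ((ν (g : G ⧸ N) : ℂˣ) : ℂ)) :=
      CharLib.isIrrCharacter_of_hom (ν.comp (QuotientGroup.mk' N))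
    refine ⟨h1, ?_⟩
    rw [CharLib.H2.frobenius_reciprocity N _ (CharLib.isClassFunction_of_irr h1)]
    have h2 : (fun n : N => ((ν ((n : G) : G ⧸ N) : ℂˣ) : ℂ)) = fun _ => 1 := by
      funext n
      rw [(QuotientGroup.eq_one_iff (n : G)).2 n.2, map_one, Units.val_one]
    rw [h2, CharLib.classInner_irr_self CharLib.isIrrCharacter_one]
    exact one_ne_zero
  have h3 := hG.injOn (hmem μ) (hmem μ') (by
    funext g
    exact h g)
  refine MonoidHom.ext fun q => ?_
  obtain ⟨g, rfl⟩ := QuotientGroup.mk_surjective q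
  exact Units.ext (congrFun h3 g)

/-- a character of degree prime to the index of a normal subgroup of `p`-power index restricts irreducibly -/
theorem exists_restrict_eq_of_not_dvd (p : ℕ) [Fact p.Prime] (N : Subgroup G) [N.Normal]
    (hq : IsPGroup p (G ⧸ N)) (χ : IrrCharacter G) (hχ : ¬ p ∣ charDegree (χ : G → ℂ)) :
    ∃ θ : IrrCharacter N, ∀ n : N, (χ : G → ℂ) n = (θ : N → ℂ) n := by
  classical
  obtain ⟨θ, hθ⟩ := Lib.Helper23.exists_constituent
    (CharLib.isCharacter_restrict (CharLib.isCharacter_of_irr χ.2) N) (by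
      intro h
      exact CharLib.irr_apply_one_ne_zero χ (congrFun h 1))
  refine ⟨θ, ?_⟩
  have hc := Lib.Helper23.charDegree_cast (CharLib.isCharacter_of_irr χ.2)
  have hd := Lib.Helper23.charDegree_cast (CharLib.isCharacter_of_irr θ.2)
  obtain ⟨h1, h2⟩ := S0887.result N χ χ.2 θ θ.2 hθ _ _ hc.symm hd.symm
  obtain ⟨j, hj⟩ := IsPGroup.iff_card.1 hq
  rw [Subgroup.index_eq_card, hj] at h2
  obtain ⟨i, -, hi⟩ := (Nat.dvd_prime_pow Fact.out).1 h2
  have h3 : charDegree (χ : G → ℂ) = charDegree (θ : N → ℂ) * p ^ i := by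
    rw [← hi, Nat.mul_div_cancel' h1]
  have hi0 : i = 0 := by
    by_contra hne
    exact hχ (h3 ▸ Dvd.dvd.mul_left (dvd_pow_self p hne) _)
  rw [hi0, pow_zero, mul_one] at h3
  have h4 := CharLib.H2.isCharacter_sub_irr
    (CharLib.isCharacter_restrict (CharLib.isCharacter_of_irr χ.2) N) θ.2 hθ
  have h5 := Lib.Helper10.isCharacter_eq_zero_of_apply_one h4 (by
    show (χ : G → ℂ) 1 - (θ : N → ℂ) 1 = 0
    rw [← hc, ← hd, h3, sub_self])
  intro n
  have h6 := congrFun h5 n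
  exact sub_eq_zero.1 h6

end Cfsg.Agent.Lib.Helper24
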