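import Mathlib
import Cfsg.Agent.H25.CentralDefect
import Cfsg.Agent.Lib.Helper23.DegLib
import Cfsg.Agent.CharLib.Eigen
import Cfsg.Agent.CharLib.Orth
import Cfsg.Agent.CharLib.Sub

/-! A `p'`-by-`p` group `X = K P` with a trivial-intersection Sylow subgroup `P` and a faithful
character of degree at most `sqrt |P|`: the centre of `P` is central in `X`. -/

set_option autoImplicit false

namespace Cfsg.Agent.Lib.Helper24.TISolv

open Cfsg Cfsg.Agent Cfsg.Agent.CharLib Cfsg.Agent.CharLib.H2 Cfsg.Agent.Lib.Helper23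
open scoped ComplexConjugate

/-- counting conjugates of a trivial-intersection set -/
theorem ti_sum_le {X : Type*} [Group X] [Fintype X] [DecidableEq X] (N : Subgroup X) (D E : Finset X)
    (hDN : ∀ n ∈ D, n ∈ N) (hTI : ∀ n ∈ D, ∀ g : X, g * n * g⁻¹ ∈ N → g ∈ N)
    (hE : ∀ n ∈ D, ∀ g : X, g * n * g⁻¹ ∈ E)
    (f : X → ℝ) (hf : ∀ g x, f (g * x * g⁻¹) = f x) (h0 : ∀ x, 0 ≤ f x) :
    (N.index : ℝ) * ∑ n ∈ D, f n ≤ ∑ g ∈ E, f g := by
  classical
  haveI : Fintype (X ⧸ N) := Fintype.ofFinite _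
  have hinj : Set.InjOn (fun qn : (X ⧸ N) × X => qn.1.out * qn.2 * qn.1.out⁻¹)
      ((Finset.univ ×ˢ D : Finset ((X ⧸ N) × X)) : Set ((X ⧸ N) × X)) := by
    rintro ⟨q, n⟩ h1 ⟨q', n'⟩ h2 h
    simp only [Finset.coe_product, Finset.coe_univ, Set.mem_prod, Set.mem_univ, true_and,
      Finset.mem_coe] at h1 h2
    simp only at h
    have h3 : (q'.out⁻¹ * q.out) * n * (q'.out⁻¹ * q.out)⁻¹ = n' := by
      have : q'.out⁻¹ * (q.out * n * q.out⁻¹) * q'.out = n' := by
        rw [h]; group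
      rw [← this]; group
    have h4 : q'.out⁻¹ * q.out ∈ N := hTI n h1 _ (by rw [h3]; exact hDN _ h2)
    have h5 : q' = q := by
      rw [← q'.out_eq, ← q.out_eq]
      exact QuotientGroup.eq.2 h4
    subst h5
    simp only [inv_mul_cancel, one_mul, inv_one, mul_one] at h3
    rw [h3]
  calc (N.index : ℝ) * ∑ n ∈ D, f n
      = ∑ qn ∈ (Finset.univ ×ˢ D : Finset ((X ⧸ N) × X)), f (qn.1.out * qn.2 * qn.1.out⁻¹) := by
        rw [Finset.sum_product]
        simp only [hf]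
        rw [Finset.sum_const, Finset.card_univ, nsmul_eq_mul, Subgroup.index, Nat.card_eq_fintype_card]
    _ = ∑ g ∈ (Finset.univ ×ˢ D : Finset ((X ⧸ N) × X)).image
          (fun qn : (X ⧸ N) × X => qn.1.out * qn.2 * qn.1.out⁻¹), f g := (Finset.sum_image hinj).symm
    _ ≤ ∑ g ∈ E, f g := by
        apply Finset.sum_le_sum_of_subset_of_nonneg
        · intro g hg
          obtain ⟨⟨q, n⟩, h1, rfl⟩ := Finset.mem_image.1 hg
          exact hE n (Finset.mem_product.1 h1).2 _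
        · intro i _ _
          exact h0 i

section grp

variable {X : Type*} [Group X] [Finite X] (K P N : Subgroup X) [hKn : K.Normal]

theorem eq_one_of_mem_of_mem (hcop : (Nat.card K).Coprime (Nat.card P)) {x : X} (h1 : x ∈ K) (h2 : x ∈ P) :
    x = 1 := by
  have h3 : orderOf x ∣ Nat.card K := by
    have := orderOf_dvd_natCard (⟨x, h1⟩ : K)
    rwa [Subgroup.orderOf_mk] at this
  have h4 : orderOf x ∣ Nat.card P := by
    have := orderOf_dvd_natCard (⟨x, h2⟩ : P)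
    rwa [Subgroup.orderOf_mk] at this
  have h5 := Nat.eq_one_of_dvd_coprimes hcop h3 h4
  exact orderOf_eq_one_iff.1 h5

/-- decomposition of the elements of the normalizer -/
theorem exists_decomp (hcop : (Nat.card K).Coprime (Nat.card P))
    (hKP : ∀ x : X, ∃ k ∈ K, ∃ u ∈ P, x = k * u)
    (hN : N = Subgroup.normalizer (P : Set X)) {n : X} (hn : n ∈ N) :
    ∃ c ∈ K, ∃ u ∈ P, n = c * u ∧ c ∈ N ∧ ∀ v ∈ P, c * v = v * c := by
  obtain ⟨k, hk, u, hu, rfl⟩ := hKP n
  have hPN : P ≤ N := by rw [hN]; exact Subgroup.le_normalizer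
  have hkN : k ∈ N := by
    have := N.mul_mem hn (N.inv_mem (hPN hu))
    simpa using this
  refine ⟨k, hk, u, hu, rfl, hkN, fun v hv => ?_⟩
  have h1 : k * v * k⁻¹ ∈ P := by
    rw [hN] at hkN
    exact (Subgroup.mem_normalizer_iff.1 hkN v).1 hv
  have h2 : k * v * k⁻¹ * v⁻¹ ∈ P := P.mul_mem h1 (P.inv_mem hv)
  have h3 : k * v * k⁻¹ * v⁻¹ ∈ K := by
    have : k * (v * k⁻¹ * v⁻¹) ∈ K := K.mul_mem hk (hKn.conj_mem _ (K.inv_mem hk) v)
    convert this using 1
    group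
  have h4 := eq_one_of_mem_of_mem K P hcop h3 h2
  calc k * v = (k * v * k⁻¹ * v⁻¹) * (v * k) := by group
    _ = v * k := by rw [h4, one_mul]

theorem central_of_center (hcop : (Nat.card K).Coprime (Nat.card P))
    (hKP : ∀ x : X, ∃ k ∈ K, ∃ u ∈ P, x = k * u)
    (hN : N = Subgroup.normalizer (P : Set X)) {z : X} (hz : z ∈ P) (hzc : ∀ v ∈ P, z * v = v * z)
    {n : X} (hn : n ∈ N) : n * z = z * n := by
  obtain ⟨c, _, u, hu, rfl, _, hc⟩ := exists_decomp K P N hcop hKP hN hn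
  rw [mul_assoc, ← hzc u hu, ← mul_assoc, hc z hz, mul_assoc]

theorem pow_card_mem (hcop : (Nat.card K).Coprime (Nat.card P))
    (hKP : ∀ x : X, ∃ k ∈ K, ∃ u ∈ P, x = k * u)
    (hN : N = Subgroup.normalizer (P : Set X)) {n : X} (hn : n ∈ N) :
    n ^ (Nat.card K) ∈ P ∧ (n ^ (Nat.card K) = 1 → n ∈ K) := by
  obtain ⟨c, hcK, u, hu, rfl, _, hc⟩ := exists_decomp K P N hcop hKP hN hn
  have h1 : (c * u) ^ (Nat.card K) = u ^ (Nat.card K) := by
    rw [(show Commute c u from hc u hu).mul_pow]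
    have : c ^ (Nat.card K) = 1 := by
      have h := congrArg Subtype.val (pow_card_eq_one' (G := K) (x := ⟨c, hcK⟩))
      simpa only [Subgroup.coe_pow, Subgroup.coe_one] using h
    rw [this, one_mul]
  rw [h1]
  refine ⟨P.pow_mem hu _, fun h => ?_⟩
  have h3 : orderOf u ∣ Nat.card K := orderOf_dvd_of_pow_eq_one h
  have h4 : orderOf u ∣ Nat.card P := by
    have := orderOf_dvd_natCard (⟨u, hu⟩ : P)
    rwa [Subgroup.orderOf_mk] at this
  have h5 := Nat.eq_one_of_dvd_coprimes hcop h3 h4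
  rw [orderOf_eq_one_iff.1 h5, mul_one]
  exact hcK

theorem ti' (hcop : (Nat.card K).Coprime (Nat.card P))
    (hKP : ∀ x : X, ∃ k ∈ K, ∃ u ∈ P, x = k * u)
    (hN : N = Subgroup.normalizer (P : Set X))
    (hTI : ∀ u ∈ P, u ≠ 1 → ∀ g : X, g * u * g⁻¹ ∈ P → g ∈ N)
    {n : X} (hn : n ∈ N) (hnK : n ∉ K) {g : X} (hg : g * n * g⁻¹ ∈ N) : g ∈ N := by
  obtain ⟨h1, h2⟩ := pow_card_mem K P N hcop hKP hN hn
  obtain ⟨h3, _⟩ := pow_card_mem K P N hcop hKP hN hg
  rw [conj_pow] at h3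
  exact hTI _ h1 (fun h => hnK (h2 h)) g h3

omit hKn in
theorem card_mul_le (hcop : (Nat.card K).Coprime (Nat.card P))
    (hN : N = Subgroup.normalizer (P : Set X)) :
    Nat.card (N ⊓ K : Subgroup X) * Nat.card P ≤ Nat.card N := by
  have hPN : P ≤ N := by rw [hN]; exact Subgroup.le_normalizer
  have h1 : Nat.card (N ⊓ K : Subgroup X) ∣ Nat.card N := Subgroup.card_dvd_of_le inf_le_left
  have h2 : Nat.card P ∣ Nat.card N := Subgroup.card_dvd_of_le hPN
  have h3 : Nat.card (N ⊓ K : Subgroup X) ∣ Nat.card K := Subgroup.card_dvd_of_le inf_le_right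
  have h4 : (Nat.card (N ⊓ K : Subgroup X)).Coprime (Nat.card P) := Nat.Coprime.coprime_dvd_left h3 hcop
  exact Nat.le_of_dvd Nat.card_pos (Nat.Coprime.mul_dvd_of_dvd_of_dvd h4 h1 h2)

end grp

theorem normSq_le_deg {X : Type*} [Group X] [Finite X] {ψ : X → ℂ} (hψ : IsCharacter X ψ) (x : X) :
    Complex.normSq (ψ x) ≤ ((charDegree ψ : ℕ) : ℝ) ^ 2 := by
  have h1 := charDegree_cast hψ
  obtain ⟨n, ρ, rfl⟩ := hψ
  have h2 := norm_character_le ρ x
  rw [Representation.char_one] at h1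
  have h3 : charDegree ρ.character = Module.finrank ℂ (Fin n → ℂ) := by exact_mod_cast h1
  rw [h3, Complex.normSq_eq_norm_sq]
  exact pow_le_pow_left₀ (norm_nonneg _) h2 2

theorem restrict_irr {X : Type*} [Group X] [Fintype X] (K P N : Subgroup X) [K.Normal] [Fintype N]
    (hcop : (Nat.card K).Coprime (Nat.card P))
    (hKP : ∀ x : X, ∃ k ∈ K, ∃ u ∈ P, x = k * u)
    (hN : N = Subgroup.normalizer (P : Set X))
    (hTI : ∀ u ∈ P, u ≠ 1 → ∀ g : X, g * u * g⁻¹ ∈ P → g ∈ N)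
    (ψ : IrrCharacter X) (hdeg : charDegree (ψ : X → ℂ) ^ 2 ≤ Nat.card P) :
    IsIrrCharacter N (fun n : N => (ψ : X → ℂ) n) := by
  classical
  set f : X → ℝ := fun x => Complex.normSq ((ψ : X → ℂ) x) with hf
  have hψc := isCharacter_of_irr ψ.2
  have hcl : ∀ g x, f (g * x * g⁻¹) = f x := by
    intro g x
    simp only [hf]
    rw [isClassFunction_of_char hψc x g]
  have h0 : ∀ x, 0 ≤ f x := fun x => Complex.normSq_nonneg _
  have hf1 : 0 < f 1 := Complex.normSq_pos.2 (irr_apply_one_ne_zero ψ)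
  have hcardX : (0 : ℝ) < Nat.card X := by exact_mod_cast Nat.card_pos
  have hcardN : (0 : ℝ) < Nat.card N := by exact_mod_cast Nat.card_pos
  have htot : ∑ x : X, f x = Nat.card X := by
    have h1 := classInner_irr_self ψ.2
    unfold classInner at h1
    simp only [Complex.mul_conj] at h1
    rw [← Complex.ofReal_sum] at h1
    have h2 : ((∑ x : X, f x : ℝ) : ℂ) = (Nat.card X : ℂ) := by
      have h3 : (Nat.card X : ℂ) ≠ 0 := by exact_mod_cast hcardX.ne'
      field_simp at h1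
      exact h1
    exact_mod_cast h2
  have hT := ti_sum_le N (Finset.univ.filter (fun x : X => x ∈ N ∧ x ∉ K))
    (Finset.univ.filter (fun x : X => x ∉ K))
    (fun n hn => (Finset.mem_filter.1 hn).2.1)
    (fun n hn g hg => ti' K P N hcop hKP hN hTI (Finset.mem_filter.1 hn).2.1
      (Finset.mem_filter.1 hn).2.2 hg)
    (fun n hn g => by
      rw [Finset.mem_filter]
      refine ⟨Finset.mem_univ _, fun h => (Finset.mem_filter.1 hn).2.2 ?_⟩
      have := (inferInstance : K.Normal).conj_mem _ h g⁻¹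
      simpa [mul_assoc] using this) f hcl h0
  have hE : ∑ g ∈ Finset.univ.filter (fun x : X => x ∉ K), f g < Nat.card X := by
    rw [← htot, ← Finset.sum_filter_add_sum_filter_not Finset.univ (fun x : X => x ∈ K)]
    have : 0 < ∑ x ∈ Finset.univ.filter (fun x : X => x ∈ K), f x :=
      lt_of_lt_of_le hf1 (Finset.single_le_sum (f := f) (fun i _ => h0 i)
        (Finset.mem_filter.2 ⟨Finset.mem_univ _, K.one_mem⟩))
    linarith
  have hD : ∑ n ∈ Finset.univ.filter (fun x : X => x ∈ N ∧ x ∉ K), f n < Nat.card N := by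
    have h1 : (Nat.card X : ℝ) = N.index * Nat.card N := by
      rw [← N.index_mul_card]; push_cast; ring
    have h2 : (0 : ℝ) < N.index := by
      exact_mod_cast Nat.pos_of_ne_zero (Subgroup.index_ne_zero_of_finite)
    rw [h1] at hE
    exact lt_of_mul_lt_mul_left (lt_of_le_of_lt hT hE) h2.le
  have hC : ∑ n ∈ Finset.univ.filter (fun x : X => x ∈ N ∧ x ∈ K), f n ≤ Nat.card N := by
    have h1 : ∑ n ∈ Finset.univ.filter (fun x : X => x ∈ N ∧ x ∈ K), f n ≤
        ∑ n ∈ Finset.univ.filter (fun x : X => x ∈ N ∧ x ∈ K), (Nat.card P : ℝ) := by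
      apply Finset.sum_le_sum
      intro i _
      refine le_trans (normSq_le_deg hψc i) ?_
      exact_mod_cast hdeg
    refine le_trans h1 ?_
    rw [Finset.sum_const, nsmul_eq_mul]
    have h2 : (Finset.univ.filter (fun x : X => x ∈ N ∧ x ∈ K)).card = Nat.card (N ⊓ K : Subgroup X) := by
      rw [Nat.card_eq_fintype_card, Fintype.card_subtype]
      apply congrArg
      ext x
      simp only [Finset.mem_filter, Finset.mem_univ, true_and, Subgroup.mem_inf]
    rw [h2]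
    exact_mod_cast card_mul_le K P N hcop hN
  have hsum : ∑ n : N, f n = ∑ n ∈ Finset.univ.filter (fun x : X => x ∈ N ∧ x ∈ K), f n +
      ∑ n ∈ Finset.univ.filter (fun x : X => x ∈ N ∧ x ∉ K), f n := by
    have h1 : ∑ n : N, f n = ∑ n ∈ Finset.univ.filter (fun x : X => x ∈ N), f n := by
      rw [Finset.sum_subtype (Finset.univ.filter (fun x : X => x ∈ N)) (p := fun x => x ∈ N)
        (by simp) f]
    rw [h1, ← Finset.sum_filter_add_sum_filter_not (Finset.univ.filter (fun x : X => x ∈ N))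
      (fun x : X => x ∈ K), Finset.filter_filter, Finset.filter_filter]
  have hres := isCharacter_restrict hψc N
  obtain ⟨k, hk⟩ := classInner_char_nat hres hres
  apply isIrrCharacter_of_norm_one hres
  rw [hk]
  have h5 : ((k : ℝ)) * Nat.card N = ∑ n : N, f n := by
    unfold classInner at hk
    simp only [Complex.mul_conj] at hk
    rw [← Complex.ofReal_sum] at hk
    have h3 : (Nat.card N : ℂ) ≠ 0 := by exact_mod_cast hcardN.ne'
    have h2 : ((∑ n : N, f n : ℝ) : ℂ) = (k : ℂ) * (Nat.card N : ℂ) := by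
      field_simp at hk
      rw [mul_comm]
      exact hk
    exact_mod_cast h2.symm
  have h6 : (k : ℝ) < 2 := by
    have : (k : ℝ) * Nat.card N < 2 * Nat.card N := by rw [h5, hsum]; linarith
    exact lt_of_mul_lt_mul_right this hcardN.le
  have h7 : (0 : ℝ) < k := by
    have h8 : 0 < ∑ n : N, f n :=
      lt_of_lt_of_le hf1 (Finset.single_le_sum (f := fun n : N => f n) (fun i _ => h0 i)
        (Finset.mem_univ (1 : N)))
    rw [← h5] at h8
    exact (mul_pos_iff_of_pos_right hcardN).1 h8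
  have h8 : k < 2 := by exact_mod_cast h6
  have h9 : 0 < k := by exact_mod_cast h7
  have : k = 1 := by omega
  rw [this, Nat.cast_one]

theorem irr_comm_eq {X : Type*} [Group X] [Fintype X] (N : Subgroup X) [Fintype N]
    (ψ : IrrCharacter X) (hres : IsIrrCharacter N (fun n : N => (ψ : X → ℂ) n))
    {z : X} (hzN : z ∈ N) (hzc : ∀ n ∈ N, n * z = z * n) (g : X) :
    (ψ : X → ℂ) (z * g * z⁻¹ * g⁻¹) = (ψ : X → ℂ) 1 := by
  have h1 := H25.normSq_central_mul (⟨_, hres⟩ : IrrCharacter N) (z := ⟨z, hzN⟩) (by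
    rw [Subgroup.mem_center_iff]; rintro ⟨n, hn⟩; exact Subtype.ext (hzc n hn)) 1
  simp only [mul_one, Subgroup.coe_one] at h1
  obtain ⟨n, ρ, hirr, hρ⟩ := ψ.2
  rw [← hρ] at h1 ⊢
  have h2 : ‖ρ.character z‖ = (Module.finrank ℂ (Fin n → ℂ) : ℝ) := by
    rw [Representation.char_one, Complex.normSq_eq_norm_sq, Complex.normSq_eq_norm_sq,
      Complex.norm_natCast] at h1
    exact (pow_left_inj₀ (norm_nonneg _) (Nat.cast_nonneg _) two_ne_zero).1 h1
  obtain ⟨ω, hω⟩ := (norm_character_eq_iff ρ z).1 h2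
  rw [Representation.char_one, character_eq_finrank_iff]
  have hc : ρ (z * g) = ρ (g * z) := by
    rw [map_mul, map_mul, hω]
    ext v
    simp
  have h3 : ρ (z * g * z⁻¹ * g⁻¹) = ρ 1 := by
    rw [show z * g * z⁻¹ * g⁻¹ = (z * g) * (z⁻¹ * g⁻¹) by group, map_mul, hc, ← map_mul]
    congr 1
    group
  rw [h3, map_one]
  rfl

theorem central_of_faithful {X : Type*} [Group X] [Finite X] (K P : Subgroup X) [K.Normal]
    (hcop : (Nat.card K).Coprime (Nat.card P))
    (hKP : ∀ x : X, ∃ k ∈ K, ∃ u ∈ P, x = k * u)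
    (hTI : ∀ u ∈ P, u ≠ 1 → ∀ g : X, g * u * g⁻¹ ∈ P → g ∈ Subgroup.normalizer (P : Set X))
    {Ψ : X → ℂ} (hΨ : IsCharacter X Ψ) (hfaith : ∀ g, Ψ g = Ψ 1 → g = 1)
    (hdeg : charDegree Ψ ^ 2 ≤ Nat.card P)
    {z : X} (hz : z ∈ P) (hzc : ∀ v ∈ P, z * v = v * z) (g : X) : z * g = g * z := by
  classical
  cases nonempty_fintype X
  obtain ⟨m, hm, hm2⟩ := exists_mult hΨ
  have key : Ψ (z * g * z⁻¹ * g⁻¹) = Ψ 1 := by
    have hm' : ∀ x, Ψ x = ∑ ψ : IrrCharacter X, (m ψ : ℂ) * (ψ : X → ℂ) x := by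
      intro x
      conv_lhs => rw [hm]
      simp only [Finset.sum_apply, Pi.smul_apply, smul_eq_mul]
    rw [hm', hm']
    apply Finset.sum_congr rfl
    intro ψ _
    by_cases h0 : m ψ = 0
    · rw [h0]; simp
    · congr 1
      have hle : charDegree (ψ : X → ℂ) ≤ charDegree Ψ :=
        charDegree_le_of_constituent hΨ ψ.2 (by rw [hm2]; exact_mod_cast h0)
      have hd : charDegree (ψ : X → ℂ) ^ 2 ≤ Nat.card P :=
        le_trans (Nat.pow_le_pow_left hle 2) hdeg
      exact irr_comm_eq _ ψ (restrict_irr K P _ hcop hKP rfl hTI ψ hd) (Subgroup.le_normalizer hz)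
        (fun n hn => central_of_center K P _ hcop hKP rfl hz hzc hn) g
  have h1 := hfaith _ key
  calc z * g = (z * g * z⁻¹ * g⁻¹) * (g * z) := by group
    _ = g * z := by rw [h1, one_mul]

theorem commute_of_ti {G : Type*} [Group G] [Finite G] (K P : Subgroup G) [hKn : K.Normal]
    (hcop : (Nat.card K).Coprime (Nat.card P))
    (hTI : ∀ u ∈ P, u ≠ 1 → ∀ g : G, g * u * g⁻¹ ∈ P → g ∈ Subgroup.normalizer (P : Set G))
    {χ : G → ℂ} (hχ : IsCharacter G χ) (hfaith : ∀ g, χ g = χ 1 → g = 1)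
    (hdeg : charDegree χ ^ 2 ≤ Nat.card P)
    {z : G} (hz : z ∈ P) (hzc : ∀ v ∈ P, z * v = v * z) {k : G} (hk : k ∈ K) : z * k = k * z := by
  have hKX : K ≤ K ⊔ P := le_sup_left
  have hPX : P ≤ K ⊔ P := le_sup_right
  have hcK : Nat.card (K.subgroupOf (K ⊔ P)) = Nat.card K :=
    Nat.card_congr (Subgroup.subgroupOfEquivOfLe hKX).toEquiv
  have hcP : Nat.card (P.subgroupOf (K ⊔ P)) = Nat.card P :=
    Nat.card_congr (Subgroup.subgroupOfEquivOfLe hPX).toEquiv
  have h := central_of_faithful (X := ↥(K ⊔ P)) (K.subgroupOf (K ⊔ P)) (P.subgroupOf (K ⊔ P))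
    (by rw [hcK, hcP]; exact hcop)
    (by
      rintro ⟨x, hx⟩
      have hx' : x ∈ ((K ⊔ P : Subgroup G) : Set G) := hx
      rw [Subgroup.normal_mul] at hx'
      obtain ⟨a, ha, u, hu, rfl⟩ := Set.mem_mul.1 hx'
      exact ⟨⟨a, hKX ha⟩, Subgroup.mem_subgroupOf.2 ha, ⟨u, hPX hu⟩, Subgroup.mem_subgroupOf.2 hu, rfl⟩)
    (by
      rintro ⟨u, huX⟩ hu hu1 ⟨g, hgX⟩ hg
      have h1 := hTI u (Subgroup.mem_subgroupOf.1 hu) (fun h => hu1 (Subtype.ext h)) g
        (Subgroup.mem_subgroupOf.1 hg)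
      rw [Subgroup.mem_normalizer_iff] at h1 ⊢
      rintro ⟨y, hy⟩
      exact h1 y)
    (Ψ := fun x : ↥(K ⊔ P) => χ x) (isCharacter_restrict hχ _)
    (fun g hg => Subtype.ext (hfaith _ hg))
    (by rw [hcP]; exact hdeg)
    (z := ⟨z, hPX hz⟩) (Subgroup.mem_subgroupOf.2 hz)
    (by
      rintro ⟨v, hvX⟩ hv
      exact Subtype.ext (hzc v (Subgroup.mem_subgroupOf.1 hv)))
    ⟨k, hKX hk⟩
  exact congrArg Subtype.val h

end Cfsg.Agent.Lib.Helper24.TISolv
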