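import Mathlib
import Cfsg.Agent.Lib.Helper24.TISolv
import Cfsg.Agent.Lib.Helper24.ExtTwist
import Cfsg.Agent.Lib.Helper2.CoprimeDeg
import Cfsg.Agent.Lib.Helper23.CharDeg2
import Cfsg.Agent.CharLib.L.AbelianIndex

/-! Groups with a normal `p`-complement and exactly one irreducible character of degree divisible by `p`. -/

set_option autoImplicit false

namespace Cfsg.Agent.Lib.Helper24.UniqueSing

open Cfsg Cfsg.Agent Cfsg.Agent.CharLib Cfsg.Agent.CharLib.H2 Cfsg.Agent.Lib.Helper23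
open scoped ComplexConjugate

/-- classes of size prime to `p` in a group with a normal `p`-complement and abelian Sylow subgroup -/
theorem card_classes_not_dvd {G : Type*} [Group G] [Finite G] (p : ℕ) [Fact p.Prime]
    (N : Subgroup G) [hNn : N.Normal] (P : Sylow p G)
    (hcop : (Nat.card N).Coprime (Nat.card (P : Subgroup G)))
    (hKP : ∀ x : G, ∃ k ∈ N, ∃ u ∈ (P : Subgroup G), x = k * u)
    (hab : ∀ u ∈ (P : Subgroup G), ∀ v ∈ (P : Subgroup G), u * v = v * u)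
    (C : Subgroup G) (hC : C = N ⊓ Subgroup.centralizer ((P : Subgroup G) : Set G)) :
    Nat.card {K : ConjClasses G // ¬ p ∣ Nat.card K.carrier} =
      Nat.card (ConjClasses C) * Nat.card (P : Subgroup G) := by
  classical
  rw [← Nat.card_prod]
  symm
  have hCN : ∀ c ∈ C, c ∈ N := fun c hc => by rw [hC] at hc; exact (Subgroup.mem_inf.1 hc).1
  have hCP : ∀ c ∈ C, ∀ u ∈ (P : Subgroup G), u * c = c * u := fun c hc u hu => by
    rw [hC] at hc
    exact Subgroup.mem_centralizer_iff.1 (Subgroup.mem_inf.1 hc).2 u hu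
  have hmemC : ∀ c ∈ N, (∀ v ∈ (P : Subgroup G), c * v = v * c) → c ∈ C := fun c hc h => by
    rw [hC]
    exact Subgroup.mem_inf.2 ⟨hc, Subgroup.mem_centralizer_iff.2 fun v hv => (h v hv).symm⟩
  have hcent : ∀ c ∈ C, ∀ u ∈ (P : Subgroup G),
      c * u ∈ Subgroup.centralizer ((P : Subgroup G) : Set G) := by
    intro c hc u hu
    rw [Subgroup.mem_centralizer_iff]
    intro v hv
    rw [← mul_assoc, hCP c hc v hv, mul_assoc, hab v hv u hu, mul_assoc]
  have hnd : ∀ x ∈ Subgroup.centralizer ((P : Subgroup G) : Set G),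
      ¬ p ∣ Nat.card (ConjClasses.mk x).carrier := by
    intro x hx
    have h1 : Nat.card (ConjClasses.mk x).carrier = (Subgroup.centralizer {x}).index := by
      rw [← card_isConj_eq_index]
      apply Nat.card_congr
      exact Equiv.subtypeEquivRight (fun y => by
        rw [ConjClasses.mem_carrier_iff_mk_eq, ConjClasses.mk_eq_mk_iff_isConj, isConj_comm])
    rw [h1]
    have h2 : (P : Subgroup G) ≤ Subgroup.centralizer {x} := by
      intro u hu
      rw [Subgroup.mem_centralizer_singleton_iff]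
      exact (Subgroup.mem_centralizer_iff.1 hx u hu)
    intro h3
    exact P.not_dvd_index (h3.trans (Subgroup.index_dvd_of_le h2))
  let rep : ConjClasses C → C := Function.surjInv ConjClasses.mk_surjective
  have hrep : ∀ κ, ConjClasses.mk (rep κ) = κ := Function.surjInv_eq ConjClasses.mk_surjective
  refine Nat.card_congr (Equiv.ofBijective
    (fun x : ConjClasses C × (P : Subgroup G) =>
      (⟨ConjClasses.mk ((rep x.1 : G) * x.2), hnd _ (hcent _ (rep x.1).2 _ x.2.2)⟩ :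
        {K : ConjClasses G // ¬ p ∣ Nat.card K.carrier})) ⟨?_, ?_⟩)
  · rintro ⟨κ, ⟨u, hu⟩⟩ ⟨κ', ⟨u', hu'⟩⟩ h
    have h1 : IsConj ((rep κ : G) * u) ((rep κ' : G) * u') :=
      ConjClasses.mk_eq_mk_iff_isConj.1 (congrArg Subtype.val h)
    obtain ⟨g, hg⟩ := isConj_iff.1 h1
    obtain ⟨n, hn, hn'⟩ := P.conj_eq_normalizer_conj_of_mem_centralizer ((rep κ : G) * u) g⁻¹
      (hcent _ (rep κ).2 _ hu) (by rw [inv_inv, hg]; exact hcent _ (rep κ').2 _ hu')
    rw [inv_inv, hg] at hn'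
    obtain ⟨c, hcN, v, hv, rfl, _, hc⟩ := TISolv.exists_decomp N (P : Subgroup G) _ hcop hKP rfl hn
    have hcC : c ∈ C := hmemC c hcN hc
    have hd : c⁻¹ * (rep κ : G) * c ∈ C := C.mul_mem (C.mul_mem (C.inv_mem hcC) (rep κ).2) hcC
    have hcu : c * u = u * c := hc u hu
    have huv : u * v = v * u := hab u hu v hv
    have hdv := hCP _ hd v hv
    have h2 : (c * v)⁻¹ * ((rep κ : G) * u) * (c * v) = (c⁻¹ * (rep κ : G) * c) * u := by
      calc (c * v)⁻¹ * ((rep κ : G) * u) * (c * v)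
          = v⁻¹ * (c⁻¹ * (rep κ : G) * (u * c)) * v := by group
        _ = v⁻¹ * (c⁻¹ * (rep κ : G) * (c * u)) * v := by rw [hcu]
        _ = v⁻¹ * ((c⁻¹ * (rep κ : G) * c) * (u * v)) := by group
        _ = v⁻¹ * ((c⁻¹ * (rep κ : G) * c) * (v * u)) := by rw [huv]
        _ = v⁻¹ * ((c⁻¹ * (rep κ : G) * c) * v) * u := by group
        _ = v⁻¹ * (v * (c⁻¹ * (rep κ : G) * c)) * u := by rw [hdv]
        _ = (c⁻¹ * (rep κ : G) * c) * u := by group
    rw [h2] at hn'
    have h3 : (c⁻¹ * (rep κ : G) * c)⁻¹ * (rep κ' : G) = u * u'⁻¹ := by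
      calc (c⁻¹ * (rep κ : G) * c)⁻¹ * (rep κ' : G)
          = (c⁻¹ * (rep κ : G) * c)⁻¹ * ((rep κ' : G) * u') * u'⁻¹ := by group
        _ = u * u'⁻¹ := by rw [hn']; group
    have h4 : u * u'⁻¹ = 1 := TISolv.eq_one_of_mem_of_mem N (P : Subgroup G) hcop
      (by rw [← h3]; exact N.mul_mem (N.inv_mem (hCN _ hd)) (hCN _ (rep κ').2))
      ((P : Subgroup G).mul_mem hu ((P : Subgroup G).inv_mem hu'))
    have h5 : u = u' := mul_inv_eq_one.1 h4
    have h6 : (rep κ' : G) = c⁻¹ * (rep κ : G) * c := by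
      rw [h4] at h3
      exact (inv_mul_eq_one.1 h3).symm
    have h7 : κ = κ' := by
      rw [← hrep κ, ← hrep κ']
      apply ConjClasses.mk_eq_mk_iff_isConj.2
      apply isConj_iff.2
      refine ⟨⟨c⁻¹, C.inv_mem hcC⟩, Subtype.ext ?_⟩
      rw [h6]
      simp
    subst h5
    rw [h7]
  · rintro ⟨K, hK⟩
    letI : MulAction (P : Subgroup G) K.carrier :=
      { smul := fun u x => ⟨(u : G) * x * (u : G)⁻¹, by
          have := x.2
          rw [ConjClasses.mem_carrier_iff_mk_eq] at this ⊢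
          exact (ConjClasses.mk_eq_mk_iff_isConj.2 (isConj_iff.2 ⟨(u : G)⁻¹, by group⟩)).trans this⟩
        one_smul := fun x => Subtype.ext (by
          show (((1 : (P : Subgroup G)) : G)) * x * (((1 : (P : Subgroup G)) : G))⁻¹ = x
          simp)
        mul_smul := fun u v x => Subtype.ext (by
          show ((u * v : (P : Subgroup G)) : G) * x * ((u * v : (P : Subgroup G)) : G)⁻¹ =
            (u : G) * ((v : G) * x * (v : G)⁻¹) * (u : G)⁻¹
          simp [mul_assoc]) }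
    obtain ⟨⟨x, hxK⟩, hx⟩ := P.2.nonempty_fixed_point_of_prime_not_dvd_card K.carrier hK
    have hxc : x ∈ Subgroup.centralizer ((P : Subgroup G) : Set G) := by
      rw [Subgroup.mem_centralizer_iff]
      intro u hu
      have h1 := congrArg Subtype.val (hx ⟨u, hu⟩)
      have h2 : u * x * u⁻¹ = x := h1
      calc u * x = (u * x * u⁻¹) * u := by group
        _ = x * u := by rw [h2]
    have hxn : x ∈ Subgroup.normalizer ((P : Subgroup G) : Set G) :=
      Subgroup.centralizer_le_normalizer _ hxc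
    obtain ⟨c, hcN, u, hu, rfl, _, hc⟩ := TISolv.exists_decomp N (P : Subgroup G) _ hcop hKP rfl hxn
    have hcC : c ∈ C := hmemC c hcN hc
    refine ⟨(ConjClasses.mk (⟨c, hcC⟩ : C), ⟨u, hu⟩), ?_⟩
    apply Subtype.ext
    rw [ConjClasses.mem_carrier_iff_mk_eq] at hxK
    show ConjClasses.mk ((rep (ConjClasses.mk (⟨c, hcC⟩ : C)) : G) * u) = K
    rw [← hxK]
    have h1 : IsConj (rep (ConjClasses.mk (⟨c, hcC⟩ : C))) (⟨c, hcC⟩ : C) :=
      ConjClasses.mk_eq_mk_iff_isConj.1 (hrep _)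
    obtain ⟨y, hy⟩ := isConj_iff.1 h1
    have hy' : (y : G) * (rep (ConjClasses.mk (⟨c, hcC⟩ : C)) : G) * (y : G)⁻¹ = c :=
      congrArg Subtype.val hy
    apply ConjClasses.mk_eq_mk_iff_isConj.2
    apply isConj_iff.2
    refine ⟨y, ?_⟩
    have h2 := hCP y y.2 u hu
    calc (y : G) * ((rep (ConjClasses.mk (⟨c, hcC⟩ : C)) : G) * u) * (y : G)⁻¹
        = (y : G) * (rep (ConjClasses.mk (⟨c, hcC⟩ : C)) : G) * (y : G)⁻¹ * ((y : G) * u) * (y : G)⁻¹ := by
          group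
      _ = c * (u * y) * (y : G)⁻¹ := by rw [hy', h2]
      _ = c * u := by group

theorem exists_irr_ne {G : Type*} [Group G] [Finite G] {n : G} (hn : n ≠ 1) :
    ∃ χ : IrrCharacter G, (χ : G → ℂ) n ≠ (χ : G → ℂ) 1 := by
  classical
  by_contra hcon
  push Not at hcon
  have h1 := sum_irr_one_mul (G := G) n
  have h2 := sum_irr_one_mul (G := G) 1
  rw [if_neg hn] at h1
  rw [if_pos rfl] at h2
  have h3 : ∑ χ : IrrCharacter G, (χ : G → ℂ) 1 * (χ : G → ℂ) n =
      ∑ χ : IrrCharacter G, (χ : G → ℂ) 1 * (χ : G → ℂ) 1 :=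
    Finset.sum_congr rfl fun χ _ => by rw [hcon χ]
  rw [h1, h2] at h3
  have : (Nat.card G : ℂ) ≠ 0 := by exact_mod_cast Nat.card_pos.ne'
  exact this h3.symm

/-- the quotient by the normal `p`-complement is abelian -/
theorem comm_of_unique {G : Type*} [Group G] [Finite G] (p : ℕ) [Fact p.Prime] (N : Subgroup G)
    [hNn : N.Normal] (hq : IsPGroup p (G ⧸ N)) (hN1 : N ≠ ⊥)
    (hone : ∀ χ ψ : IrrCharacter G, p ∣ charDegree (χ : G → ℂ) → p ∣ charDegree (ψ : G → ℂ) → χ = ψ) :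
    ∀ a b : G ⧸ N, a * b = b * a := by
  classical
  cases nonempty_fintype G
  apply comm_of_all_linear
  intro β
  by_contra hβ
  have hp : p.Prime := Fact.out
  let χ₀ : IrrCharacter G := ⟨fun g => (β : G ⧸ N → ℂ) (QuotientGroup.mk' N g),
    isIrrCharacter_comp_of_surjective β.2 (QuotientGroup.mk' N) (QuotientGroup.mk'_surjective N)⟩
  have hχ₀ : ∀ g, (χ₀ : G → ℂ) g = (β : G ⧸ N → ℂ) (QuotientGroup.mk' N g) := fun g => rfl
  have hχ₀N : ∀ n ∈ N, (χ₀ : G → ℂ) n = (β : G ⧸ N → ℂ) 1 := by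
    intro n hn
    rw [hχ₀]
    exact congrArg (β : G ⧸ N → ℂ) ((QuotientGroup.eq_one_iff n).2 hn)
  have hdeg0 : charDegree (χ₀ : G → ℂ) = charDegree (β : G ⧸ N → ℂ) := by
    unfold charDegree
    rw [hχ₀, map_one]
  have hpd : p ∣ charDegree (χ₀ : G → ℂ) := by
    rw [hdeg0]
    obtain ⟨k, hk⟩ := IsPGroup.iff_card.1 hq
    have h1 := charDegree_dvd_card β
    rw [hk] at h1
    obtain ⟨j, _, hj⟩ := (Nat.dvd_prime_pow hp).1 h1
    rcases Nat.eq_zero_or_pos j with h0 | h0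
    · exfalso
      apply hβ
      rw [← charDegree_cast_irr, hj, h0]
      simp
    · rw [hj]
      exact dvd_pow_self p h0.ne'
  obtain ⟨n, hnN, hn1⟩ : ∃ n ∈ N, n ≠ 1 := by
    by_contra hcon
    push Not at hcon
    exact hN1 ((Subgroup.eq_bot_iff_forall N).2 hcon)
  obtain ⟨χ, hχ⟩ := exists_irr_ne hn1
  have hne : χ ≠ χ₀ := by
    intro h
    apply hχ
    rw [h, hχ₀N n hnN, hχ₀N 1 N.one_mem]
  have hnd : ¬ p ∣ charDegree (χ : G → ℂ) := fun h => hne (hone _ _ h hpd)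
  obtain ⟨θ, hθ⟩ := exists_restrict_eq_of_not_dvd p N hq χ hnd
  have hχN : IsIrrCharacter N (fun n : N => (χ : G → ℂ) n) := by
    have : (fun n : N => (χ : G → ℂ) n) = (θ : N → ℂ) := funext hθ
    rw [this]
    exact θ.2
  have hgal := H6.gallagher N χ.2 hχN
  have hb0 : (β : G ⧸ N → ℂ) 1 ≠ 0 := irr_apply_one_ne_zero β
  have hmem : (χ₀ : G → ℂ) ∈ {β : G → ℂ | IsIrrCharacter G β ∧
      classInner (indFun N (fun _ => (1 : ℂ))) β ≠ 0} := by
    refine ⟨χ₀.2, ?_⟩
    rw [frobenius_reciprocity N _ (isClassFunction_of_irr χ₀.2), classInner]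
    have h1 : ∀ x : N, (1 : ℂ) * conj ((χ₀ : G → ℂ) x) = conj ((β : G ⧸ N → ℂ) 1) := by
      intro x
      rw [one_mul, hχ₀N x x.2]
    simp only [h1, Finset.sum_const, Finset.card_univ, nsmul_eq_mul]
    rw [← Nat.card_eq_fintype_card, ← mul_assoc, inv_mul_cancel₀ (by exact_mod_cast Nat.card_pos.ne'),
      one_mul]
    exact (map_ne_zero _).2 hb0
  have hirr : IsIrrCharacter G ((χ₀ : G → ℂ) * (χ : G → ℂ)) := (hgal.mapsTo hmem).1
  have hpd2 : p ∣ charDegree ((χ₀ : G → ℂ) * (χ : G → ℂ)) := by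
    have h1 : ((χ₀ : G → ℂ) * (χ : G → ℂ)) 1 =
        ((charDegree (χ₀ : G → ℂ) * charDegree (χ : G → ℂ) : ℕ) : ℂ) := by
      rw [Pi.mul_apply]
      push_cast
      rw [charDegree_cast_irr, charDegree_cast_irr]
    rw [H25.charDegree_of_apply_one h1]
    exact Dvd.dvd.mul_right hpd _
  have heq : (⟨_, hirr⟩ : IrrCharacter G) = χ₀ := hone _ _ hpd2 hpd
  have heq' : ∀ g, (χ₀ : G → ℂ) g * (χ : G → ℂ) g = (χ₀ : G → ℂ) g := fun g =>
    congrFun (congrArg Subtype.val heq) g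
  apply hχ
  have h1 := heq' n
  have h2 := heq' 1
  rw [hχ₀N n hnN] at h1
  rw [hχ₀N 1 N.one_mem] at h2
  have h3 : (χ : G → ℂ) n = 1 := mul_left_cancel₀ hb0 (by rw [h1, mul_one])
  have h4 : (χ : G → ℂ) 1 = 1 := mul_left_cancel₀ hb0 (by rw [h2, mul_one])
  rw [h3, h4]

end Cfsg.Agent.Lib.Helper24.UniqueSing
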